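import Mathlib
import Groth.Prelude.Def_FlatMod2
import Groth.Prelude.Def_CohB1
import Groth.Agent.Lib.Lead.FO1
import Groth.Agent.Lib.Lead.FLF7
import Groth.Agent.Lib.Helper9.GenFree.Main2
import Groth.Agent.Lib.Helper9.GenFree.Conv
import Groth.Agent.Lib.Helper7.CohStalk.PushforwardQC2

/-! helper7: generic flatness for quasi-coherent modules of finite type along quasi-compact
morphisms locally of finite type to an integral scheme (via generic freeness over a domain). -/

set_option linter.style.haveILetI false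
set_option linter.unusedVariables false
set_option linter.unusedSectionVars false
set_option autoImplicit false
set_option backward.isDefEq.respectTransparency.types false

open CategoryTheory CategoryTheory.Limits AlgebraicGeometry TopologicalSpace

namespace Groth.Agent.Helper7.GenFlat

universe u

open Groth.Agent.Lead.FO Groth.Agent.Lead.SD Groth.Agent.Helper9.GenFree

/-- If `M` becomes free after inverting `a ∈ R`, then every localization of `M` (as a module over
an `R`-algebra `B`) at a submonoid of `B` containing `a` is flat over `R`. -/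
theorem flat_of_isLocalizedModule_of_free_away {R B M N : Type u} [CommRing R] [CommRing B]
    [Algebra R B] [AddCommGroup M] [Module R M] [Module B M] [IsScalarTower R B M]
    [AddCommGroup N] [Module R N] [Module B N] [IsScalarTower R B N] (a : R)
    (hfree : Module.Free (Localization.Away a) (LocalizedModule (Submonoid.powers a) M))
    (S : Submonoid B) (haS : algebraMap R B a ∈ S) (g : M →ₗ[B] N) [IsLocalizedModule S g] :
    Module.Flat R N := by
  have hle : Submonoid.powers (algebraMap R B a) ≤ S := (Submonoid.powers_le).mpr haS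
  haveI hloc : IsLocalizedModule (Submonoid.powers a)
      ((LocalizedModule.mkLinearMap (Submonoid.powers (algebraMap R B a)) M).restrictScalars R) :=
    IsLocalizedModule.restrictScalars_powers a
      (LocalizedModule.mkLinearMap (Submonoid.powers (algebraMap R B a)) M)
  let e : LocalizedModule (Submonoid.powers a) M ≃ₗ[R]
      LocalizedModule (Submonoid.powers (algebraMap R B a)) M :=
    IsLocalizedModule.iso (Submonoid.powers a)
      ((LocalizedModule.mkLinearMap (Submonoid.powers (algebraMap R B a)) M).restrictScalars R)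
  haveI : Module.Flat (Localization.Away a) (LocalizedModule (Submonoid.powers a) M) :=
    inferInstance
  haveI : Module.Flat R (LocalizedModule (Submonoid.powers a) M) :=
    Module.Flat.trans R (Localization.Away a) _
  haveI : Module.Flat R (LocalizedModule (Submonoid.powers (algebraMap R B a)) M) :=
    Module.Flat.of_linearEquiv e.symm
  exact flat_of_isLocalizedModule_algebra (R := R) (S := B) S
    (IsLocalizedModule.liftOfLE (Submonoid.powers (algebraMap R B a)) S hle
      (LocalizedModule.mkLinearMap (Submonoid.powers (algebraMap R B a)) M) g)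

attribute [local instance] stalkModule

/-- Generic flatness on one affine chart. -/
theorem exists_ne_zero_forall_isFlatOverAt_of_affine {X Y : Scheme.{u}} (f : X ⟶ Y)
    [LocallyOfFiniteType f] (F : X.Modules) [F.IsQuasicoherent] (hft : CohB1.IsFT F)
    {W : X.Opens} {V : Y.Opens} (hW : IsAffineOpen W) (hV : IsAffineOpen V)
    (hWV : W ≤ f ⁻¹ᵁ V) [IsDomain Γ(Y, V)] :
    ∃ a : Γ(Y, V), a ≠ 0 ∧ ∀ x : W,
      IsUnit (Y.presheaf.germ V (f x.1) (hWV x.2) a) → FlatMod.IsFlatOverAt f F x.1 := by
  letI alg : Algebra Γ(Y, V) Γ(X, W) := (f.appLE V W hWV).hom.toAlgebra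
  haveI : Algebra.FiniteType Γ(Y, V) Γ(X, W) :=
    LocallyOfFiniteType.finiteType_appLE f hV hW hWV
  letI m1 := sectionsOver f F hWV
  haveI t1 : IsScalarTower Γ(Y, V) Γ(X, W) Γ(F, W) :=
    IsScalarTower.of_algebraMap_smul fun r m => rfl
  haveI : Module.Finite Γ(X, W) Γ(F, W) := Groth.Agent.Lead.FLF.ft_sections F hft hW
  obtain ⟨a, ha, hfree⟩ :=
    (goodRing_of_finiteType' Γ(Y, V) Γ(X, W) Γ(F, W)).exists_free
  refine ⟨a, ha, fun x hx => ?_⟩
  rw [isFlatOverAt_iff_flat_stalkOver f F hV hWV x]
  letI m2 := stalkOver f F hWV x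
  haveI t2 : IsScalarTower Γ(Y, V) Γ(X, W) (F.presheaf.stalk x.1) :=
    IsScalarTower.of_algebraMap_smul fun r m => rfl
  haveI := isLocalizedModule_germ F hW x
  have haS : algebraMap Γ(Y, V) Γ(X, W) a ∈ (hW.primeIdealOf x).asIdeal.primeCompl := by
    rw [← isUnit_germ_iff hW x]
    have h1 := stalkMap_germ_eq f hWV x a
    have h2 : IsUnit ((f.stalkMap x.1).hom (Y.presheaf.germ V (f x.1) (hWV x.2) a)) :=
      hx.map _
    rw [h1] at h2
    exact h2
  exact flat_of_isLocalizedModule_of_free_away a hfree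
    (hW.primeIdealOf x).asIdeal.primeCompl haS (germₗ F x)

/-- **Generic flatness** for a quasi-coherent module of finite type along a quasi-compact morphism
locally of finite type to an integral scheme. -/
theorem generic_flatness {X Y : Scheme.{u}} (f : X ⟶ Y) [IsIntegral Y] [LocallyOfFiniteType f]
    [QuasiCompact f] (F : X.Modules) [F.IsQuasicoherent] (hft : CohB1.IsFT F) :
    ∃ U : Y.Opens, (U : Set Y).Nonempty ∧
      ∀ x : X, f.base x ∈ U → FlatMod.IsFlatOverAt f F x := by
  classical
  obtain ⟨V, hV, hyV⟩ : ∃ V : Y.Opens, IsAffineOpen V ∧ genericPoint Y ∈ V := by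
    obtain ⟨_, ⟨V, hV, rfl⟩, hy, -⟩ := (Y.isBasis_affineOpens).exists_subset_of_mem_open
      (Set.mem_univ (genericPoint Y)) isOpen_univ
    exact ⟨V, hV, hy⟩
  haveI : Nonempty V := ⟨⟨_, hyV⟩⟩
  haveI : IsDomain Γ(Y, V) := inferInstance
  have hcomp : IsCompact ((f ⁻¹ᵁ V : X.Opens) : Set X) :=
    QuasiCompact.isCompact_preimage (f := f) _ V.isOpen hV.isCompact
  obtain ⟨t, ht1, ht2⟩ :=
    Groth.Agent.Helper7.FinType.exists_finset_affine_cover (f ⁻¹ᵁ V) hcomp
  have hex : ∀ W : t, ∃ a : Γ(Y, V), a ≠ 0 ∧ ∀ x : W.1,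
      IsUnit (Y.presheaf.germ V (f x.1) ((ht1 W.1 W.2).2 x.2) a) →
        FlatMod.IsFlatOverAt f F x.1 := fun W =>
    exists_ne_zero_forall_isFlatOverAt_of_affine f F hft (ht1 W.1 W.2).1 hV (ht1 W.1 W.2).2
  choose a ha hflat using hex
  have hA : (∏ W : t, a W) ≠ 0 := Finset.prod_ne_zero_iff.mpr (fun W _ => ha W)
  refine ⟨Y.basicOpen (∏ W : t, a W), ?_, ?_⟩
  · by_contra hne
    have h0 : Y.basicOpen (∏ W : t, a W) = ⊥ := by
      rw [← Opens.not_nonempty_iff_eq_bot]
      exact hne
    exact hA ((basicOpen_eq_bot_iff _).mp h0)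
  · intro x hx
    have hxV : f x ∈ V := Y.basicOpen_le _ hx
    obtain ⟨W, hWt, hxW⟩ := ht2 x hxV
    have hu : IsUnit (Y.presheaf.germ V (f x) hxV (∏ W : t, a W)) :=
      (Scheme.mem_basicOpen Y _ (f x) hxV).mp hx
    have hdvd : a ⟨W, hWt⟩ ∣ ∏ W : t, a W :=
      Finset.dvd_prod_of_mem _ (Finset.mem_univ _)
    have hu' : IsUnit (Y.presheaf.germ V (f x) hxV (a ⟨W, hWt⟩)) :=
      isUnit_of_dvd_unit (map_dvd (Y.presheaf.germ V (f x) hxV).hom hdvd) hu
    exact hflat ⟨W, hWt⟩ ⟨x, hxW⟩ hu'

end Groth.Agent.Helper7.GenFlat
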